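import Mathlib
import Groth.Agent.Lib.Helper7.FibProper.Core
import Groth.Agent.Lib.Helper7.LimGen3

set_option autoImplicit false
set_option linter.style.haveILetI false
set_option linter.unusedVariables false
set_option linter.unusedSectionVars false
set_option backward.isDefEq.respectTransparency.types false
set_option synthInstance.maxHeartbeats 400000
set_option maxHeartbeats 1600000

open CategoryTheory CategoryTheory.Limits AlgebraicGeometry Opposite Topology TopologicalSpace

universe u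

/-! helper7: properness descends to a finite stage of a cofiltered limit with affine transition maps when the stages of the target are Noetherian (EGA IV 8.10.5 (xii)), by separatedness descent, Chow's lemma and the descent of closed immersions -/

namespace Groth.Agent.Helper7.ProperDesc

open Groth.Agent.Helper7.LimStage Groth.Agent.Helper7.FibProper Groth.Agent.Helper7

section NoLimit

/-- the base change of a base change is the base change along the composite. -/
theorem bcHom_bcHom_iff (P : MorphismProperty Scheme.{u}) [P.IsStableUnderBaseChange]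
    {X₀ Y₀ Z₀ Z T : Scheme.{u}} (f₀ : X₀ ⟶ Y₀) (g₀ : Y₀ ⟶ Z₀) (r : Z ⟶ Z₀) (t : T ⟶ Z) :
    P (bcHom (bcHom f₀ g₀ r) (pullback.snd g₀ r) t) ↔ P (bcHom f₀ g₀ (t ≫ r)) := by
  have hY : IsPullback (pullback.fst (pullback.snd g₀ r) t ≫ pullback.fst g₀ r)
      (pullback.snd (pullback.snd g₀ r) t) g₀ (t ≫ r) :=
    (IsPullback.of_hasPullback (pullback.snd g₀ r) t).paste_horiz
      (IsPullback.of_hasPullback g₀ r)
  have hX : IsPullback
      (pullback.fst (bcHom f₀ g₀ r ≫ pullback.snd g₀ r) t ≫ pullback.fst (f₀ ≫ g₀) r)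
      (bcHom (bcHom f₀ g₀ r) (pullback.snd g₀ r) t) f₀
      (pullback.fst (pullback.snd g₀ r) t ≫ pullback.fst g₀ r) :=
    (isPullback_bcHom (bcHom f₀ g₀ r) (pullback.snd g₀ r) t).paste_horiz
      (isPullback_bcHom f₀ g₀ r)
  exact ⟨fun h => bcHom_of_isPullback f₀ g₀ P (t ≫ r) hY hX h,
    fun h => of_bcHom_of_isPullback f₀ g₀ P (t ≫ r) hY hX h⟩

/-- Chow-type criterion for the properness of a base change: with a proper surjective `π`, an
immersion `j` into a scheme proper over `Y` and `f` separated of finite type, the base change of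
`f` is proper iff the base change of `j` is a closed immersion. -/
theorem isProper_bcHom_iff {X' X Y P S T : Scheme.{u}} (π : X' ⟶ X) (f : X ⟶ Y) (g : Y ⟶ S)
    (j : X' ⟶ P) (p : P ⟶ Y) [IsProper π] [Surjective π] [IsSeparated f]
    [LocallyOfFiniteType f] [IsImmersion j] [IsProper p] (h : π ≫ f = j ≫ p) (t : T ⟶ S) :
    IsProper (bcHom f g t) ↔ IsClosedImmersion (bcHom j (p ≫ g) t) := by
  have hπ : π ≫ (f ≫ g) = j ≫ (p ≫ g) := by rw [← Category.assoc, h, Category.assoc]
  haveI : IsProper (fm π hπ t) :=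
    MorphismProperty.of_isPullback (P := @IsProper) (isPullback_fm π hπ t) inferInstance
  haveI : Surjective (fm π hπ t) :=
    MorphismProperty.of_isPullback (P := @Surjective) (isPullback_fm π hπ t) inferInstance
  haveI : IsSeparated (fm (u := f ≫ g) (v := g) f rfl t) :=
    MorphismProperty.of_isPullback (P := @IsSeparated) (isPullback_fm f rfl t) inferInstance
  haveI : LocallyOfFiniteType (fm (u := f ≫ g) (v := g) f rfl t) :=
    MorphismProperty.of_isPullback (P := @LocallyOfFiniteType) (isPullback_fm f rfl t)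
      inferInstance
  haveI : IsImmersion (fm (u := j ≫ (p ≫ g)) (v := p ≫ g) j rfl t) :=
    MorphismProperty.of_isPullback (P := @IsImmersion) (isPullback_fm j rfl t) inferInstance
  haveI : IsProper (fm (u := p ≫ g) (v := g) p rfl t) :=
    MorphismProperty.of_isPullback (P := @IsProper) (isPullback_fm p rfl t) inferInstance
  have hcomm : fm π hπ t ≫ fm (u := f ≫ g) (v := g) f rfl t =
      fm (u := j ≫ (p ≫ g)) (v := p ≫ g) j rfl t ≫ fm (u := p ≫ g) (v := g) p rfl t := by
    rw [fm_comp, fm_comp]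
    exact fm_congr h _ t
  have key := isProper_iff_isClosed_range _ _ _ _ hcomm
  have e1 : bcHom f g t = fm (u := f ≫ g) (v := g) f rfl t := rfl
  have e2 : bcHom j (p ≫ g) t = fm (u := j ≫ (p ≫ g)) (v := p ≫ g) j rfl t := rfl
  rw [e1, e2, key]
  constructor
  · intro hc
    exact IsClosedImmersion.of_isPreimmersion _ hc
  · intro hci
    haveI := hci
    exact (fm (u := j ≫ (p ≫ g)) (v := p ≫ g) j rfl t).isClosedEmbedding.isClosed_range

end NoLimit

section Limit

variable {I : Type u} [Category.{u} I] [IsCofiltered I] (D : I ⥤ Scheme.{u}) (c : Cone D)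
  (hc : IsLimit c) [∀ {i j : I} (f : i ⟶ j), IsAffineHom (D.map f)] {i₀ : I}
  {X₀ Y₀ : Scheme.{u}} (f₀ : X₀ ⟶ Y₀) (g₀ : Y₀ ⟶ D.obj i₀)

include hc in
/-- **properness descends to a stage** of a cofiltered limit with affine transition maps, when the
stages of the target are Noetherian (EGA IV 8.10.5 (xii)), by Chow's lemma. -/
theorem exists_stage_isProper [CompactSpace Y₀] [QuasiCompact f₀] [QuasiSeparated f₀]
    [LocallyOfFiniteType f₀]
    (hN : ∀ (j : I) (φ : j ⟶ i₀), IsNoetherian (pullback g₀ (D.map φ)))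
    (h : IsProper (bcHom f₀ g₀ (c.π.app i₀))) :
    ∃ (j : I) (φ : j ⟶ i₀), IsProper (bcHom f₀ g₀ (D.map φ)) := by
  haveI := h
  obtain ⟨j₁, φ₁, hsep⟩ := LimGen.exists_stage_isSeparated' D c hc f₀ g₀ inferInstance
  haveI := hN j₁ φ₁
  have key : ∀ (f₁ : pullback (f₀ ≫ g₀) (D.map φ₁) ⟶ pullback g₀ (D.map φ₁))
      (g₁ : pullback g₀ (D.map φ₁) ⟶ D.obj j₁), f₁ = bcHom f₀ g₀ (D.map φ₁) →
      g₁ = pullback.snd g₀ (D.map φ₁) →
      ∃ (k : I) (ψ : k ⟶ j₁), IsProper (bcHom f₁ g₁ (D.map ψ)) := by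
    intro f₁ g₁ hf₁ hg₁
    haveI : IsSeparated f₁ := by rw [hf₁]; exact hsep
    haveI : LocallyOfFiniteType f₁ := by
      rw [hf₁]
      exact MorphismProperty.of_isPullback (P := @LocallyOfFiniteType)
        (isPullback_bcHom f₀ g₀ (D.map φ₁)) inferInstance
    haveI : QuasiCompact f₁ := by
      rw [hf₁]
      exact MorphismProperty.of_isPullback (P := @QuasiCompact)
        (isPullback_bcHom f₀ g₀ (D.map φ₁)) inferInstance
    have h1 : IsProper (bcHom f₁ g₁ (c.π.app j₁)) := by
      subst hf₁ hg₁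
      rw [bcHom_bcHom_iff @IsProper f₀ g₀ (D.map φ₁) (c.π.app j₁), c.w φ₁]
      exact h
    obtain ⟨X', π, ⟨n, j, hj, hjqc, hjπ⟩, -, hπ, hπs, -⟩ :=
      Groth.Agent.Helper1.Chow.exists_chow_ega f₁ (Or.inl inferInstance)
    haveI := hj
    haveI := hjqc
    haveI := hπ
    haveI := hπs
    have crit : ∀ {T : Scheme.{u}} (t : T ⟶ D.obj j₁), IsProper (bcHom f₁ g₁ t) ↔
        IsClosedImmersion (bcHom j
          (CohB1.ProjSpaceOver.toBase n (pullback g₀ (D.map φ₁)) ≫ g₁) t) :=
      fun t => isProper_bcHom_iff π f₁ g₁ j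
        (CohB1.ProjSpaceOver.toBase n (pullback g₀ (D.map φ₁))) hjπ.symm t
    have h2 := (crit (c.π.app j₁)).mp h1
    haveI : CompactSpace ↥(CohB1.ProjSpaceOver n (pullback g₀ (D.map φ₁))) :=
      QuasiCompact.compactSpace_of_compactSpace
        (CohB1.ProjSpaceOver.toBase n (pullback g₀ (D.map φ₁)))
    haveI : LocallyOfFiniteType
        (j ≫ CohB1.ProjSpaceOver.toBase n (pullback g₀ (D.map φ₁))) := by
      rw [hjπ]; infer_instance
    haveI : LocallyOfFiniteType j :=
      locallyOfFiniteType_of_comp j (CohB1.ProjSpaceOver.toBase n (pullback g₀ (D.map φ₁)))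
    obtain ⟨k, ψ, hk⟩ := LimGen.exists_stage_isClosedImmersion' D c hc j
      (CohB1.ProjSpaceOver.toBase n (pullback g₀ (D.map φ₁)) ≫ g₁) h2
    exact ⟨k, ψ, (crit (D.map ψ)).mpr hk⟩
  obtain ⟨k, ψ, hk⟩ := key _ _ rfl rfl
  refine ⟨k, ψ ≫ φ₁, ?_⟩
  rw [D.map_comp]
  exact (bcHom_bcHom_iff @IsProper f₀ g₀ (D.map φ₁) (D.map ψ)).mp hk

end Limit

end Groth.Agent.Helper7.ProperDesc
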