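import Mathlib
import Groth.Prelude.Def_EGA4b
import Groth.Agent.Lib.Helper7.ProperDesc.Main
import Groth.Agent.Lib.Helper7.StalkLim.Cone

set_option autoImplicit false
set_option linter.style.haveILetI false
set_option linter.unusedVariables false
set_option linter.unusedSectionVars false
set_option backward.isDefEq.respectTransparency.types false
set_option backward.isDefEq.respectTransparency false
set_option synthInstance.maxHeartbeats 400000
set_option maxHeartbeats 1600000

open CategoryTheory CategoryTheory.Limits AlgebraicGeometry Opposite Topology TopologicalSpace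

universe u

/-! helper7: properness descends along flat surjective quasi-compact base change, and spreads out from the local scheme (and from the completion of the local ring) at a point of a locally Noetherian base to an affine neighbourhood (EGA IV 8.10.5, 2.7.1) -/

namespace Groth.Agent.Helper7.ProperDesc

open Groth.Agent.Helper7.LimStage Groth.Agent.Helper7.FibProper Groth.Agent.Helper7.FibTop
  Groth.Agent.Helper7.StalkLim Groth.Agent.Helper7

section Fpqc

variable {X Y X' Y' : Scheme.{u}} {f : X ⟶ Y} {f' : X' ⟶ Y'} {i : X' ⟶ X} {j : Y' ⟶ Y}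

/-- separatedness descends along a flat surjective quasi-compact base change. -/
theorem isSeparated_of_isPullback_fpqc (h : IsPullback i f' f j) [Flat j] [QuasiCompact j]
    [Surjective j] (hf' : IsSeparated f') : IsSeparated f := by
  have hθ := isPullback_diagMap_base h
  haveI : Flat (diagMap h) := MorphismProperty.of_isPullback (P := @Flat) hθ.flip inferInstance
  haveI : QuasiCompact (diagMap h) :=
    MorphismProperty.of_isPullback (P := @QuasiCompact) hθ.flip inferInstance
  haveI : Surjective (diagMap h) :=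
    MorphismProperty.of_isPullback (P := @Surjective) hθ.flip inferInstance
  have hq : IsQuotientMap (diagMap h) := Flat.isQuotientMap_of_surjective (diagMap h)
  have hr : Set.range (pullback.diagonal f') = (diagMap h) ⁻¹' Set.range (pullback.diagonal f) :=
    range_snd_of_isPullback (isPullback_diagonal h)
  have hc : IsClosed (Set.range (pullback.diagonal f')) :=
    (pullback.diagonal f').isClosedEmbedding.isClosed_range
  rw [hr, hq.isClosed_preimage] at hc
  exact ⟨IsClosedImmersion.of_isPreimmersion _ hc⟩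

/-- properness descends along a flat surjective quasi-compact base change. -/
theorem isProper_of_isPullback_fpqc (h : IsPullback i f' f j) [Flat j] [QuasiCompact j]
    [Surjective j] [LocallyOfFiniteType f] [QuasiCompact f] (hf' : IsProper f') :
    IsProper f := by
  haveI : IsSeparated f := isSeparated_of_isPullback_fpqc h inferInstance
  haveI : UniversallyClosed f :=
    (inferInstance : MorphismProperty.DescendsAlong (@UniversallyClosed)
      (@Surjective ⊓ @Flat ⊓ @QuasiCompact : MorphismProperty Scheme.{u})).of_isPullback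
      h.flip ⟨⟨inferInstance, inferInstance⟩, inferInstance⟩ inferInstance
  exact {}

/-- the spectrum of a faithfully flat algebra is a flat surjective cover. -/
theorem fpqc_specMap_of_faithfullyFlat (O R : Type u) [CommRing O] [CommRing R] [Algebra O R]
    [Module.FaithfullyFlat O R] :
    Flat (Spec.map (CommRingCat.ofHom (algebraMap O R))) ∧
      Surjective (Spec.map (CommRingCat.ofHom (algebraMap O R))) := by
  have hff : (algebraMap O R).FaithfullyFlat :=
    RingHom.faithfullyFlat_algebraMap_iff.mpr inferInstance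
  obtain ⟨h1, h2⟩ := RingHom.FaithfullyFlat.iff_flat_and_comap_surjective.mp hff
  exact ⟨Flat.SpecMap_iff.mpr h1, ⟨h2⟩⟩

end Fpqc

section Restr

theorem homOfLE_morphismRestrict {X S : Scheme.{u}} (f : X ⟶ S) {V W : S.Opens} (hle : W ≤ V) :
    X.homOfLE (f.preimage_mono hle) ≫ (f ∣_ V) = (f ∣_ W) ≫ S.homOfLE hle := by
  rw [← cancel_mono V.ι]
  simp only [Category.assoc, morphismRestrict_ι, Scheme.homOfLE_ι, Scheme.homOfLE_ι_assoc]

end Restr

section Spread

variable {X Y S : Scheme.{u}} (f : X ⟶ Y) (g : Y ⟶ S) (s : S)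

/-- **properness spreads out from the local scheme at a point**: over a locally Noetherian base,
for morphisms of finite type, if the base change to the local scheme at `s` is proper then the
restriction over an affine open neighbourhood of `s` is proper. -/
theorem exists_nbhd_isProper_of_stalk [IsLocallyNoetherian S] [QuasiCompact g]
    [LocallyOfFiniteType g] [QuasiCompact f] [QuasiSeparated f] [LocallyOfFiniteType f]
    (h : IsProper (bcHom f g (S.fromSpecStalk s))) :
    ∃ W : S.Opens, IsAffineOpen W ∧ s ∈ W ∧ IsProper (f ∣_ (g ⁻¹ᵁ W)) := by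
  obtain ⟨W₀⟩ := (inferInstance : Nonempty (Nb S s))
  obtain ⟨hc⟩ := isLimit_nbCone S s
  have hsqg := (isPullback_morphismRestrict g W₀.1).flip
  have hsqf := (isPullback_morphismRestrict f (g ⁻¹ᵁ W₀.1)).flip
  haveI : QuasiCompact (g ∣_ W₀.1) :=
    MorphismProperty.of_isPullback (P := @QuasiCompact) hsqg inferInstance
  haveI : LocallyOfFiniteType (g ∣_ W₀.1) :=
    MorphismProperty.of_isPullback (P := @LocallyOfFiniteType) hsqg inferInstance
  haveI : QuasiCompact (f ∣_ (g ⁻¹ᵁ W₀.1)) :=
    MorphismProperty.of_isPullback (P := @QuasiCompact) hsqf inferInstance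
  haveI : QuasiSeparated (f ∣_ (g ⁻¹ᵁ W₀.1)) :=
    MorphismProperty.of_isPullback (P := @QuasiSeparated) hsqf inferInstance
  haveI : LocallyOfFiniteType (f ∣_ (g ⁻¹ᵁ W₀.1)) :=
    MorphismProperty.of_isPullback (P := @LocallyOfFiniteType) hsqf inferInstance
  haveI : IsAffine (W₀.1.toScheme) := W₀.2.1
  haveI : CompactSpace ↥(g ⁻¹ᵁ W₀.1).toScheme :=
    QuasiCompact.compactSpace_of_compactSpace (g ∣_ W₀.1)
  -- the base change of the restriction to the local scheme is proper
  have hbcf : IsBC f (f ∣_ (g ⁻¹ᵁ W₀.1)) (g ⁻¹ᵁ W₀.1).ι := ⟨_, hsqf⟩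
  have hbc1 : IsBC f (bcHom (f ∣_ (g ⁻¹ᵁ W₀.1)) (g ∣_ W₀.1) ((nbCone S s).π.app W₀))
      (pullback.fst (g ∣_ W₀.1) ((nbCone S s).π.app W₀) ≫ (g ⁻¹ᵁ W₀.1).ι) :=
    IsBC.comp hbcf (isBC_bcHom _ _ _)
  have w1 : (pullback.fst (g ∣_ W₀.1) ((nbCone S s).π.app W₀) ≫ (g ⁻¹ᵁ W₀.1).ι) ≫ g =
      pullback.snd (g ∣_ W₀.1) ((nbCone S s).π.app W₀) ≫ S.fromSpecStalk s := by
    rw [Category.assoc, ← morphismRestrict_ι, ← Category.assoc, pullback.condition,
      Category.assoc, nbCone_π_ι]
  have h1 : IsProper (bcHom (f ∣_ (g ⁻¹ᵁ W₀.1)) (g ∣_ W₀.1) ((nbCone S s).π.app W₀)) :=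
    IsBC.of_fac @IsProper (isBC_bcHom f g (S.fromSpecStalk s)) hbc1
      (pullback.lift _ _ w1) (pullback.lift_fst _ _ _) h
  have hN : ∀ (j : Nb S s) (φ : j ⟶ W₀),
      IsNoetherian (pullback (g ∣_ W₀.1) ((nbDiag S s).map φ)) := by
    intro j φ
    haveI : IsAffine (j.1.toScheme) := j.2.1
    haveI : IsNoetherian ((nbDiag S s).obj j) := by
      show IsNoetherian (j.1.toScheme)
      exact {}
    haveI : IsLocallyNoetherian (pullback (g ∣_ W₀.1) ((nbDiag S s).map φ)) :=
      LocallyOfFiniteType.isLocallyNoetherian (pullback.snd (g ∣_ W₀.1) ((nbDiag S s).map φ))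
    haveI : CompactSpace ↥(pullback (g ∣_ W₀.1) ((nbDiag S s).map φ)) :=
      QuasiCompact.compactSpace_of_compactSpace (pullback.snd (g ∣_ W₀.1) ((nbDiag S s).map φ))
    exact {}
  obtain ⟨l, φ, hl⟩ := exists_stage_isProper (nbDiag S s) (nbCone S s) hc
    (f ∣_ (g ⁻¹ᵁ W₀.1)) (g ∣_ W₀.1) hN h1
  refine ⟨l.1, l.2.1, l.2.2, ?_⟩
  have hle : l.1 ≤ W₀.1 := Subtype.coe_le_coe.mpr (leOfHom φ)
  have hbc2 : IsBC f (bcHom (f ∣_ (g ⁻¹ᵁ W₀.1)) (g ∣_ W₀.1) ((nbDiag S s).map φ))
      (pullback.fst (g ∣_ W₀.1) ((nbDiag S s).map φ) ≫ (g ⁻¹ᵁ W₀.1).ι) :=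
    IsBC.comp hbcf (isBC_bcHom _ _ _)
  have hbc3 : IsBC f (f ∣_ (g ⁻¹ᵁ l.1)) (g ⁻¹ᵁ l.1).ι :=
    ⟨_, (isPullback_morphismRestrict f (g ⁻¹ᵁ l.1)).flip⟩
  have w2 : Y.homOfLE (g.preimage_mono hle) ≫ (g ∣_ W₀.1) =
      (g ∣_ l.1) ≫ (nbDiag S s).map φ := homOfLE_morphismRestrict g hle
  refine IsBC.of_fac @IsProper hbc2 hbc3 (pullback.lift _ _ w2) ?_ hl
  rw [pullback.lift_fst_assoc, Scheme.homOfLE_ι]

end Spread

section Compl

variable {X Y S : Scheme.{u}} (f : X ⟶ Y) (g : Y ⟶ S) (s : S)

/-- **properness spreads out from the completion of the local ring at a point** (locally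
Noetherian base, morphisms of finite type). -/
theorem exists_nbhd_isProper_of_completion [IsLocallyNoetherian S] [QuasiCompact g]
    [LocallyOfFiniteType g] [QuasiCompact f] [QuasiSeparated f] [LocallyOfFiniteType f]
    (hR : IsProper (pullback.snd f (pullback.fst g
      (Spec.map (CommRingCat.ofHom (algebraMap (S.presheaf.stalk s)
        (EGA4.Cpl (S.presheaf.stalk s)))) ≫ S.fromSpecStalk s)))) :
    ∃ W : S.Opens, IsAffineOpen W ∧ s ∈ W ∧ IsProper (f ∣_ (g ⁻¹ᵁ W)) := by
  apply exists_nbhd_isProper_of_stalk f g s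
  haveI : Module.FaithfullyFlat ↑(S.presheaf.stalk s) (EGA4.Cpl ↑(S.presheaf.stalk s)) :=
    Module.FaithfullyFlat.of_flat_of_isLocalHom
  obtain ⟨hfl, hsu⟩ := fpqc_specMap_of_faithfullyFlat ↑(S.presheaf.stalk s)
    (EGA4.Cpl ↑(S.presheaf.stalk s))
  obtain ⟨c, hcdef⟩ : ∃ c : Spec (CommRingCat.of (EGA4.Cpl ↑(S.presheaf.stalk s))) ⟶
      Spec (CommRingCat.of ↑(S.presheaf.stalk s)),
      c = Spec.map (CommRingCat.ofHom (algebraMap ↑(S.presheaf.stalk s)
        (EGA4.Cpl ↑(S.presheaf.stalk s)))) := ⟨_, rfl⟩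
  haveI : Flat c := hcdef ▸ hfl
  haveI : Surjective c := hcdef ▸ hsu
  haveI : QuasiCompact c := by rw [hcdef]; infer_instance
  have h1 : IsProper (bcHom f g (c ≫ S.fromSpecStalk s)) := by
    rw [hcdef]
    exact bcHom_of_isPullback f g @IsProper _ (IsPullback.of_hasPullback _ _)
      (IsPullback.of_hasPullback _ _) hR
  have h2 := (bcHom_bcHom_iff @IsProper f g (S.fromSpecStalk s) c).mpr h1
  have hsq := isPullback_bcHom (bcHom f g (S.fromSpecStalk s))
    (pullback.snd g (S.fromSpecStalk s)) c
  haveI : Flat (pullback.fst (pullback.snd g (S.fromSpecStalk s)) c) :=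
    MorphismProperty.of_isPullback (P := @Flat)
      (IsPullback.of_hasPullback (pullback.snd g (S.fromSpecStalk s)) c).flip inferInstance
  haveI : Surjective (pullback.fst (pullback.snd g (S.fromSpecStalk s)) c) :=
    MorphismProperty.of_isPullback (P := @Surjective)
      (IsPullback.of_hasPullback (pullback.snd g (S.fromSpecStalk s)) c).flip inferInstance
  haveI : QuasiCompact (pullback.fst (pullback.snd g (S.fromSpecStalk s)) c) :=
    MorphismProperty.of_isPullback (P := @QuasiCompact)
      (IsPullback.of_hasPullback (pullback.snd g (S.fromSpecStalk s)) c).flip inferInstance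
  haveI : LocallyOfFiniteType (bcHom f g (S.fromSpecStalk s)) :=
    MorphismProperty.of_isPullback (P := @LocallyOfFiniteType)
      (isPullback_bcHom f g (S.fromSpecStalk s)) inferInstance
  haveI : QuasiCompact (bcHom f g (S.fromSpecStalk s)) :=
    MorphismProperty.of_isPullback (P := @QuasiCompact)
      (isPullback_bcHom f g (S.fromSpecStalk s)) inferInstance
  exact isProper_of_isPullback_fpqc hsq h2

end Compl

end Groth.Agent.Helper7.ProperDesc
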